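import Cfsg.Agent.OddHalf.EightTorus.Kill
import Cfsg.Agent.OddHalf.D8.Rows
import Cfsg.Agent.S1152
import Cfsg.Agent.S1157
import Cfsg.Agent.S1073
import Cfsg.Agent.SporadicB.J1.Main

/-!
# Rows `K = J₁` (D8) and `K = ²G₂(q)` (D6) of the ODD half
-/

set_option autoImplicit false

namespace Cfsg.Agent.OddHalf.EightTorus.Rows

open Subgroup Cfsg Cfsg.Agent.OddHalf.Iface Cfsg.Agent.StdL2.G23Aut

universe u

/-- a simple standard component with elementary abelian Sylow 2-subgroups of order 8 -/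
theorem row (G : Type u) [Group G] (C : Ctx G) (K : Subgroup G) (S : Std G K) (hcyc : Cyc K)
    (P : Sylow 2 ↥K) (h8 : Nat.card ↥(P : Subgroup ↥K) = 8) (hsq : ∀ x ∈ P, x * x = 1)
    (hcen : center ↥K = ⊥) : False := by
  have := C.fin
  have hp2 : Fact (Nat.Prime 2) := ⟨Nat.prime_two⟩
  obtain ⟨t, q, hst⟩ := Front.FE.exists_start C S hcyc hcen
  refine Kill.Pos.false (K := K) (V := (P : Subgroup ↥K).map K.subtype) (t := t) (q := q)
    ⟨hst, ?_, ?_, ?_, ?_⟩ C
  · rintro _ ⟨x, -, rfl⟩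
    exact x.2
  · rw [relIndex, subgroupOf, comap_map_eq_self_of_injective K.subtype_injective]
    exact P.not_dvd_index
  · rw [card_map_of_injective K.subtype_injective]
    exact h8
  · rintro _ ⟨x, hx, rfl⟩
    exact congrArg Subtype.val (hsq x hx)

/-- a group isomorphic to `K` -/
theorem row_of_equiv (G : Type u) [Group G] (C : Ctx G) (K : Subgroup G) (S : Std G K) (hcyc : Cyc K)
    {Z : Type*} [Group Z] (e : ↥K ≃* Z) (Q : Sylow 2 Z)
    (h8 : Nat.card Q = 8) (hQ : ∀ x ∈ Q, x * x = 1) (hZ : center Z = ⊥) : False := by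
  have := C.fin
  have hle : (Q : Subgroup Z) ≤ e.toMonoidHom.range := by
    rw [MonoidHom.range_eq_top.mpr e.surjective]; exact le_top
  let P : Sylow 2 ↥K := Q.comapOfInjective e.toMonoidHom e.injective hle
  have hS : ∀ s, s ∈ (P : Subgroup ↥K) ↔ e s ∈ (Q : Subgroup Z) := fun s => Iff.rfl
  refine row G C K S hcyc P ?_ ?_ ?_
  · rw [← h8]
    exact Nat.card_congr ⟨fun s => ⟨e s, (hS s).1 s.2⟩, fun t => ⟨e.symm t, (hS _).2 (by
      rw [e.apply_symm_apply]; exact t.2)⟩, fun s => Subtype.ext (e.symm_apply_apply _),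
      fun t => Subtype.ext (e.apply_symm_apply _)⟩
  · intro s hs
    apply e.injective
    rw [map_mul, map_one]
    exact hQ _ ((hS s).1 hs)
  · rw [eq_bot_iff]
    intro x hx
    have h1 : e x ∈ center Z := by
      rw [mem_center_iff] at hx ⊢
      intro z
      have h2 := congrArg e (hx (e.symm z))
      rwa [map_mul, map_mul, e.apply_symm_apply] at h2
    rw [hZ, mem_bot] at h1
    rw [mem_bot]
    apply e.injective
    rw [h1, map_one]

/-- the centre of a nonabelian simple group -/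
theorem center_eq_bot {Z : Type*} [Group Z] (hZ : IsSimpleGroup Z) (hna : ¬ IsMulCommutative Z) :
    center Z = ⊥ := by
  rcases (inferInstance : (center Z).Normal).eq_bot_or_eq_top with h1 | h1
  · exact h1
  · exfalso
    apply hna
    exact ⟨⟨fun a b => mem_center_iff.1 (by rw [h1]; trivial : b ∈ center Z) a⟩⟩

/-- **Row `K = ²G₂(q)`** (D6) -/
theorem ree : OddHalf.D8.Rows.Row.{u} (fun K _ => Lie.IsoRee K) := by
  intro G _ C K S hcyc hX
  obtain ⟨F, _, _, m, hm, hF, ⟨e⟩⟩ := hX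
  obtain ⟨a, haH, ha1, ha2⟩ := Cfsg.Agent.S1157.exists_involution hF
  obtain ⟨-, hS⟩ := Cfsg.Agent.S1152.result hF a haH ha1 ha2
  obtain ⟨Q⟩ : Nonempty (Sylow 2 ↥(Cfsg.Lie.twistedG2 F (3 ^ m))) := inferInstance
  refine row_of_equiv G C K S hcyc e Q (hS Q).1 (hS Q).2 ?_
  have h1 := Cfsg.Agent.S1073.result hm hF
  exact center_eq_bot h1.1 h1.2

open Cfsg.Agent.SporadicB.J1.Main in
/-- **Row `K = J₁`** (D8) -/
theorem j1 : OddHalf.D8.Rows.Row.{u} (fun K _ => Spor.IsoJ1 K) := by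
  intro G _ C K S hcyc hX
  obtain ⟨e0⟩ := hX
  have hE : Nat.card data.E = 8 := data.card_E
  have hcard : Nat.card Cfsg.Spor.J1 = 175560 := isJ1.2
  have hfin : Finite Cfsg.Spor.J1 := Nat.finite_of_card_ne_zero (by rw [hcard]; norm_num)
  have : Fact (Nat.Prime 2) := ⟨Nat.prime_two⟩
  have hmul : Nat.card data.E = 2 ^ (Nat.card Cfsg.Spor.J1).factorization 2 := by
    rw [hE, hcard, show (175560 : ℕ) = 2 ^ 3 * 21945 by norm_num,
      Nat.factorization_mul (by norm_num) (by norm_num), Nat.Prime.factorization_pow Nat.prime_two]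
    rw [Finsupp.add_apply, Finsupp.single_eq_same,
      Nat.factorization_eq_zero_of_not_dvd (by norm_num : ¬ 2 ∣ 21945)]
    norm_num
  let P : Sylow 2 Cfsg.Spor.J1 := Sylow.ofCard data.E hmul
  refine row_of_equiv G C K S hcyc e0 P hE ?_ ?_
  · intro x hx
    obtain ⟨i, rfl⟩ : x ∈ Set.range data.e := hx
    exact ((rep_e i).mul (rep_e i)).eq Rep.one (ce_sq i)
  · refine center_eq_bot (isJ1.1) ?_
    intro hcomm
    have h1 := isJ1.1
    have hn : data.E.Normal := ⟨fun x hx g => by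
      have h2 : g * x = x * g := hcomm.is_comm.comm g x
      rwa [h2, mul_inv_cancel_right]⟩
    rcases hn.eq_bot_or_eq_top with h2 | h2
    · rw [h2, card_bot] at hE
      omega
    · rw [h2, card_top, hcard] at hE
      omega

end Cfsg.Agent.OddHalf.EightTorus.Rows
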