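import Cfsg.Agent.StdL2.TowerFirst
import Cfsg.Agent.StdL2.G23Aut
import Cfsg.Agent.OddHalf.EightTorus.AbelAut

/-!
# The automizer of an elementary abelian Sylow 2-subgroup of order 8 of a simple group

`K` simple, `V` an elementary abelian Sylow 2-subgroup of `K` of order 8, `K` normal in `C(t)`. Then
`N_K(V)` contains an element `d` acting regularly on `V \ {1}`, and `N(V) ∩ C(t)` induces a group of odd order on `V`.
-/

set_option autoImplicit false

namespace Cfsg.Agent.OddHalf.EightTorus.Auto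

open Subgroup Cfsg.Agent.StdL2 Cfsg.Agent.StdL2.G23Aut

/-- a subgroup of order 7 of a simple group of order 168 has a normalizer of order 21 -/
theorem card_normalizer {A : Type*} [Group A] [Finite A] (hA : IsSimpleGroup A) (h168 : Nat.card A = 168)
    (Y : Subgroup A) (hY : Nat.card Y = 7) : Nat.card (normalizer (Y : Set A)) = 21 := by
  classical
  have h7 : Fact (Nat.Prime 7) := ⟨by norm_num⟩
  have hidx : Y.index = 24 := by
    have h1 := Y.card_mul_index
    rw [hY, h168] at h1
    omega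
  have hYp : IsPGroup 7 Y := IsPGroup.of_card (n := 1) (by rw [hY, pow_one])
  let S : Sylow 7 A := hYp.toSylow (by rw [hidx]; norm_num)
  have hSY : (S : Subgroup A) = Y := rfl
  have h1 := S.card_dvd_index
  rw [hSY, hidx] at h1
  have h2 := card_sylow_modEq_one 7 A
  have h3 := S.card_eq_index_normalizer
  have h0 : ∀ n : ℕ, n ∣ 24 → n % 7 = 1 → n = 1 ∨ n = 8 := by
    intro n hn hn7
    have h5 : n ≤ 24 := Nat.le_of_dvd (by norm_num) hn
    interval_cases n <;> omega
  have h4 := h0 _ h1 h2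
  have hN : (normalizer (S : Set A)) = normalizer (Y : Set A) := rfl
  rcases h4 with h4 | h4
  · exfalso
    rw [h3, index_eq_one] at h4
    have hn : Y.Normal := by
      rw [← normalizer_eq_top_iff]
      exact h4
    rcases hn.eq_bot_or_eq_top with h | h
    · rw [h, card_bot] at hY
      omega
    · rw [h, card_top] at hY
      omega
  · have h5 := (normalizer (Y : Set A)).card_mul_index
    rw [h3] at h4
    have h6 : (normalizer (Y : Set A)).index = 8 := h4
    rw [h6, h168] at h5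
    omega

/-- `X ≤ Z ≤ N(X)` in a simple group of order 168, `X` of odd order divisible by 7. -/
theorem odd_of {A : Type*} [Group A] [Finite A] (hA : IsSimpleGroup A) (h168 : Nat.card A = 168)
    {X Z : Subgroup A} (hZX : Z ≤ normalizer (X : Set A)) (hodd : ¬ 2 ∣ Nat.card X)
    {y : A} (hyX : y ∈ X) (hy : orderOf y = 7) :
    ¬ 2 ∣ Nat.card Z ∧ ∀ z ∈ Z, z * y * z⁻¹ ∈ zpowers y := by
  classical
  have h7 : Fact (Nat.Prime 7) := ⟨by norm_num⟩
  have hYX : zpowers y ≤ X := zpowers_le.2 hyX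
  have hY : Nat.card (zpowers y) = 7 := by rw [Nat.card_zpowers, hy]
  -- `|X|` is 7 or 21
  have h21 : Nat.card X ∣ 21 := by
    have h1 : Nat.card X ∣ 168 := h168 ▸ card_subgroup_dvd_card X
    have h2 : Nat.Coprime (Nat.card X) 8 := by
      rw [show 8 = 2 ^ 3 by norm_num]
      exact Nat.Coprime.pow_right 3 ((Nat.prime_two.coprime_iff_not_dvd.2 hodd).symm)
    exact h2.dvd_of_dvd_mul_right (by rw [show 21 * 8 = 168 by norm_num]; exact h1)
  have h7X : 7 ∣ Nat.card X := by rw [← hY]; exact card_dvd_of_le hYX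
  -- the subgroup of order 7 of `X` is unique
  have huniq : ∀ w ∈ X, orderOf w = 7 → w ∈ zpowers y := by
    intro w hw hw7
    have hc : ∀ (u : A) (hu : u ∈ X), orderOf u = 7 → ∃ S : Sylow 7 X, (S : Subgroup X) = zpowers ⟨u, hu⟩ := by
      intro u hu hu7
      have h1 : Nat.card (zpowers (⟨u, hu⟩ : X)) = 7 := by
        rw [Nat.card_zpowers, Subgroup.orderOf_mk, hu7]
      have hp : IsPGroup 7 (zpowers (⟨u, hu⟩ : X)) := IsPGroup.of_card (n := 1) (by rw [h1, pow_one])
      refine ⟨hp.toSylow ?_, rfl⟩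
      have h2 := (zpowers (⟨u, hu⟩ : X)).card_mul_index
      rw [h1] at h2
      intro h3
      have h4 : 49 ∣ Nat.card X := by
        rw [← h2, show 49 = 7 * 7 by norm_num]
        exact mul_dvd_mul_left 7 h3
      have h5 := h4.trans h21
      omega
    obtain ⟨S₁, hS₁⟩ := hc y hyX hy
    obtain ⟨S₂, hS₂⟩ := hc w hw hw7
    have h1 := S₁.card_dvd_index
    have h2 := card_sylow_modEq_one 7 X
    have h3 : Nat.card (Sylow 7 X) = 1 := by
      have h4 : (S₁ : Subgroup X).index ∣ 3 := by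
        have h5 := (S₁ : Subgroup X).card_mul_index
        rw [hS₁, Nat.card_zpowers, Subgroup.orderOf_mk, hy] at h5
        rw [hS₁]
        have h6 : 7 * (zpowers (⟨y, hyX⟩ : X)).index ∣ 7 * 3 := by rw [h5]; exact h21
        exact Nat.dvd_of_mul_dvd_mul_left (by norm_num) h6
      have h5 : Nat.card (Sylow 7 X) ≤ 3 := Nat.le_of_dvd (by norm_num) (h1.trans h4)
      have h6 : Nat.card (Sylow 7 X) % 7 = 1 := h2
      omega
    have h4 : S₂ = S₁ := by
      have h5 := (Nat.card_eq_one_iff_unique.1 h3).1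
      exact Subsingleton.elim _ _
    have h5 : (⟨w, hw⟩ : X) ∈ zpowers (⟨y, hyX⟩ : X) := by
      rw [← hS₁, ← h4, hS₂]
      exact mem_zpowers _
    obtain ⟨k, hk⟩ := mem_zpowers_iff.1 h5
    exact mem_zpowers_iff.2 ⟨k, congrArg Subtype.val hk⟩
  have hZY : ∀ z ∈ Z, z * y * z⁻¹ ∈ zpowers y := by
    intro z hz
    apply huniq
    · exact (mem_normalizer_iff.1 (hZX hz) y).1 hyX
    · have h1 : z * y * z⁻¹ = MulAut.conj z y := rfl
      rw [h1, MulEquiv.orderOf_eq, hy]
  refine ⟨?_, hZY⟩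
  have hle : Z ≤ normalizer ((zpowers y : Subgroup A) : Set A) := by
    intro z hz
    have hsub : ∀ z ∈ Z, ∀ x ∈ zpowers y, z * x * z⁻¹ ∈ zpowers y := by
      rintro z hz _ ⟨k, rfl⟩
      show z * y ^ k * z⁻¹ ∈ zpowers y
      rw [← conj_zpow]
      exact zpow_mem (hZY z hz) k
    rw [mem_normalizer_iff]
    intro x
    constructor
    · exact hsub z hz x
    · intro hx
      have h1 := hsub z⁻¹ (inv_mem hz) _ hx
      have h2 : z⁻¹ * (z * x * z⁻¹) * z⁻¹⁻¹ = x := by group
      rwa [h2] at h1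
  intro h2
  have h3 : Nat.card Z ∣ 21 := by
    rw [← card_normalizer hA h168 (zpowers y) hY]
    exact card_dvd_of_le hle
  have h4 := h2.trans h3
  omega

/-- an automorphism of order 7 of an elementary abelian group of order 8 is regular -/
theorem regular {V : Type*} [Group V] [Finite V] (h8 : Nat.card V = 8) (y : MulAut V) (hy : orderOf y = 7)
    {v w : V} (hv : v ≠ 1) (hw : w ≠ 1) : ∃ n : ℕ, (y ^ n) v = w := by
  classical
  have h7 : Fact (Nat.Prime 7) := ⟨by norm_num⟩
  have hfree : ∀ n : ℕ, ¬ 7 ∣ n → (y ^ n) v ≠ v := by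
    intro n hn hfix
    -- `y` fixes `v`
    have hcop : n.Coprime (orderOf y) := by
      rw [hy]
      exact ((Nat.Prime.coprime_iff_not_dvd (by norm_num : Nat.Prime 7)).2 hn).symm
    obtain ⟨m, hm⟩ := exists_pow_eq_self_of_coprime hcop
    have h1 : ∀ m : ℕ, ((y ^ n) ^ m) v = v := by
      intro m
      induction m with
      | zero => simp
      | succ m ih => rw [pow_succ', MulAut.mul_apply, ih, hfix]
    have h2 : y v = v := by rw [← hm]; exact h1 m
    -- count fixed points
    have hp : IsPGroup 7 (zpowers y) := IsPGroup.of_card (n := 1) (by rw [Nat.card_zpowers, hy, pow_one])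
    have h3 := hp.card_modEq_card_fixedPoints V
    have hfixed : ∀ x : V, x ∈ MulAction.fixedPoints (zpowers y) V ↔ y x = x := by
      intro x
      constructor
      · intro h
        exact h ⟨y, mem_zpowers y⟩
      · intro h
        rintro ⟨z, hz⟩
        have h4 : y ∈ MulAction.stabilizer (MulAut V) x := h
        have h5 := (zpowers_le.2 h4) hz
        exact h5
    let F : Subgroup V :=
      { carrier := MulAction.fixedPoints (zpowers y) V
        one_mem' := (hfixed 1).2 (map_one y)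
        mul_mem' := by
          intro a b ha hb
          rw [hfixed] at *
          rw [map_mul, ha, hb]
        inv_mem' := by
          intro a ha
          rw [hfixed] at *
          rw [map_inv, ha] }
    have h4 : Nat.card (MulAction.fixedPoints (zpowers y) V) = Nat.card F := rfl
    have h5 : Nat.card F ∣ 8 := h8 ▸ card_subgroup_dvd_card F
    have h6 : Nat.card F ≠ 1 := by
      intro h
      rw [card_eq_one, eq_bot_iff] at h
      exact hv (mem_bot.1 (h ((hfixed v).2 h2)))
    rw [h8, h4] at h3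
    have h9 : Nat.card F = 8 := by
      have h10 : Nat.card F ≤ 8 := Nat.le_of_dvd (by norm_num) h5
      have h11 : 8 % 7 = Nat.card F % 7 := h3
      have h12 : 0 < Nat.card F := Nat.card_pos
      omega
    have h10 : F = ⊤ := by
      apply eq_top_of_card_eq
      rw [h9, h8]
    have h11 : y = 1 := by
      ext x
      have h12 : x ∈ F := by rw [h10]; trivial
      exact (hfixed x).1 h12
    rw [h11, orderOf_one] at hy
    omega
  -- the map `i ↦ y^i v`
  let f : Fin 7 → {x : V // x ≠ 1} := fun i => ⟨(y ^ (i : ℕ)) v, by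
    intro h
    apply hv
    apply (y ^ (i : ℕ)).injective
    rw [h, map_one]⟩
  have hinj : Function.Injective f := by
    intro i j hij
    have h1 : (y ^ (i : ℕ)) v = (y ^ (j : ℕ)) v := congrArg Subtype.val hij
    have key : ∀ a b : ℕ, a ≤ b → b < 7 → (y ^ a) v = (y ^ b) v → a = b := by
      intro a b hab hb h
      by_contra hne
      obtain ⟨c, rfl⟩ := Nat.exists_eq_add_of_le hab
      rw [pow_add, MulAut.mul_apply] at h
      have h2 := (y ^ a).injective h
      refine hfree c ?_ h2.symm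
      intro h3
      have := Nat.le_of_dvd (by omega) h3
      omega
    apply Fin.ext
    rcases le_total (i : ℕ) (j : ℕ) with h | h
    · exact key _ _ h j.2 h1
    · exact (key _ _ h i.2 h1.symm).symm
  have hcard : Nat.card {x : V // x ≠ 1} = 7 := by
    have : Fintype V := Fintype.ofFinite V
    rw [Nat.card_eq_fintype_card, Fintype.card_subtype_compl, Fintype.card_subtype_eq,
      ← Nat.card_eq_fintype_card, h8]
  have hbij : Function.Bijective f := by
    have : Finite {x : V // x ≠ 1} := inferInstance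
    have h1 : Nat.card (Fin 7) = Nat.card {x : V // x ≠ 1} := by rw [hcard, Nat.card_fin]
    exact hinj.bijective_of_nat_card_le (by rw [hcard, Nat.card_fin])
  obtain ⟨i, hi⟩ := hbij.2 ⟨w, hw⟩
  exact ⟨i, congrArg Subtype.val hi⟩

/-- an involution of an abelian Sylow 2-subgroup of a simple group which is centralized by its normalizer -/
theorem fixed_eq_one {K : Type*} [Group K] [Finite K] [IsSimpleGroup K] (hna : ∃ a b : K, a * b ≠ b * a)
    (S : Sylow 2 K) (hS : ∀ x ∈ (S : Subgroup K), ∀ y ∈ (S : Subgroup K), x * y = y * x) {v : K}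
    (hv : v ∈ (S : Subgroup K)) (hvv : v * v = 1) (hN : ∀ n ∈ normalizer (S : Set K), n * v * n⁻¹ = v) :
    v = 1 := by
  have h2 : Fact (Nat.Prime 2) := ⟨Nat.prime_two⟩
  by_contra hv1
  have hSc : IsMulCommutative (S : Subgroup K) := ⟨⟨fun x y => Subtype.ext (hS x x.2 y y.2)⟩⟩
  have hvo : orderOf v = 2 := orderOf_eq_prime_iff.2 ⟨by rw [pow_two]; exact hvv, hv1⟩
  obtain ⟨O, hO, hOodd, hOc⟩ := Cfsg.Agent.S0215.result S v hvo hv (by
    intro g hg
    obtain ⟨n, hn, h3⟩ := Sylow.conj_eq_normalizer_conj_of_mem S v g⁻¹ hv (by rwa [inv_inv])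
    rw [inv_inv] at h3
    rw [h3]
    have h4 := hN n⁻¹ (inv_mem hn)
    rwa [inv_inv] at h4)
  have hO1 : O = ⊥ := by
    rcases hO.eq_bot_or_eq_top with h | h
    · exact h
    · exfalso
      rw [h, card_top] at hOodd
      have h3 : 2 ∣ Nat.card K := by rw [← hvo]; exact orderOf_dvd_natCard v
      exact (Nat.not_even_iff_odd.2 hOodd) (even_iff_two_dvd.2 h3)
  have hcen : v ∈ center K := by
    rw [mem_center_iff]
    intro g
    have h3 := hOc g
    rw [hO1, mem_bot, mul_inv_eq_one, mul_inv_eq_iff_eq_mul] at h3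
    exact h3.symm
  rcases (inferInstance : (center K).Normal).eq_bot_or_eq_top with h | h
  · rw [h, mem_bot] at hcen
    exact hv1 hcen
  · obtain ⟨a, b, hab⟩ := hna
    have h1 : b ∈ center K := by rw [h]; trivial
    exact hab (mem_center_iff.1 h1 a)

/-- The local situation: `V` an elementary abelian Sylow 2-subgroup of order 8 of the simple subgroup `K`,
normal in `C(t)`. -/
structure Loc {G : Type*} [Group G] (K V : Subgroup G) (t : G) : Prop where
  simple : IsSimpleGroup K
  na : ∃ x ∈ K, ∃ y ∈ K, x * y ≠ y * x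
  VK : V ≤ K
  odd : ¬ 2 ∣ V.relIndex K
  oct : Oct V
  Kt : ∀ x ∈ K, x * t = t * x
  nK : ∀ g : G, g * t = t * g → g ∈ normalizer (K : Set G)

namespace Loc

variable {G : Type*} [Group G] [Finite G] {K V : Subgroup G} {t : G}

omit [Finite G] in
/-- conjugation on `V` -/
theorem exists_hom (V : Subgroup G) : ∃ ρ : normalizer (V : Set G) →* MulAut V,
    ∀ (n : normalizer (V : Set G)) (x : V), ((ρ n x : V) : G) = n * x * (n : G)⁻¹ :=
  ⟨Subgroup.normalizerMonoidHom V, fun _ _ => rfl⟩

theorem main (h : Loc K V t) : ∃ d ∈ K, d ∈ normalizer (V : Set G) ∧ Tor t V d ∧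
    (∀ P : Subgroup G, IsPGroup 2 P → (∀ x ∈ P, x * t = t * x) → P ≤ normalizer (V : Set G) →
      ∀ x ∈ P, ∀ v ∈ V, x * v = v * x) := by
  classical
  have hp2 : Fact (Nat.Prime 2) := ⟨Nat.prime_two⟩
  have hp3 : Fact (Nat.Prime 3) := ⟨Nat.prime_three⟩
  have hp7 : Fact (Nat.Prime 7) := ⟨by norm_num⟩
  have hKs := h.simple
  obtain ⟨ρ, hρ⟩ := exists_hom V
  let N : Subgroup G := normalizer (V : Set G)
  let X : Subgroup (MulAut V) := (K.subgroupOf N).map ρ
  let Z : Subgroup (MulAut V) := ((centralizer ({t} : Set G)).subgroupOf N).map ρ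
  have h168 := h.oct.card_aut
  have hAs := h.oct.simple_aut
  have hfin := h.oct.finite_aut
  have hVfin : Finite V := inferInstance
  have h8 := h.oct.card
  -- the Sylow subgroup
  have hVp : IsPGroup 2 V := IsPGroup.of_card (n := 3) (by rw [h8]; norm_num)
  have hV' : IsPGroup 2 (V.subgroupOf K) := hVp.comap_subtype
  let S : Sylow 2 K := hV'.toSylow h.odd
  have hSV : (S : Subgroup K) = V.subgroupOf K := rfl
  have hScomm : ∀ x ∈ (S : Subgroup K), ∀ y ∈ (S : Subgroup K), x * y = y * x := by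
    intro x hx y hy
    exact Subtype.ext (h.oct.comm (mem_subgroupOf.1 hx) (mem_subgroupOf.1 hy))
  have hna : ∃ a b : K, a * b ≠ b * a := by
    obtain ⟨x, hx, y, hy, hxy⟩ := h.na
    exact ⟨⟨x, hx⟩, ⟨y, hy⟩, fun h1 => hxy (congrArg Subtype.val h1)⟩
  -- the order of `X`
  have hVN : V ≤ N := le_normalizer
  have hVker : V.subgroupOf N ≤ ρ.ker := by
    intro n hn
    rw [MonoidHom.mem_ker]
    ext x
    rw [hρ n x]
    show (n : G) * x * (n : G)⁻¹ = x
    rw [h.oct.comm (mem_subgroupOf.1 hn) x.2, mul_inv_cancel_right]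
  have hXodd : ¬ 2 ∣ Nat.card X := by
    intro h2
    have h3 : Nat.card X ∣ V.relIndex (K ⊓ N) := by
      have h4 : Nat.card X = ρ.ker.relIndex (K.subgroupOf N) := (relIndex_ker _ ρ).symm
      rw [h4, ← inf_subgroupOf_right K N, ← relIndex_subgroupOf (H := V) (K := K ⊓ N) (L := N) inf_le_right]
      exact relIndex_dvd_of_le_left _ hVker
    have h5 : V.relIndex (K ⊓ N) ∣ V.relIndex K :=
      ⟨_, (relIndex_mul_relIndex V (K ⊓ N) K (le_inf h.VK hVN) inf_le_left).symm⟩
    exact h.odd (h2.trans (h3.trans h5))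
  have hX21 : Nat.card X ∣ 21 := by
    have h1 : Nat.card X ∣ 168 := h168 ▸ card_subgroup_dvd_card X
    have h2 : Nat.Coprime (Nat.card X) 8 := by
      rw [show 8 = 2 ^ 3 by norm_num]
      exact Nat.Coprime.pow_right 3 ((Nat.prime_two.coprime_iff_not_dvd.2 hXodd).symm)
    exact h2.dvd_of_dvd_mul_right (by rw [show 21 * 8 = 168 by norm_num]; exact h1)
  have h7X : 7 ∣ Nat.card X := by
    by_contra h7
    have h1 : Nat.card X = 1 ∨ Nat.card X = 3 := by
      have h2 : ∀ n : ℕ, n ∣ 21 → ¬ 7 ∣ n → n = 1 ∨ n = 3 := by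
        intro n hn
        have h5 : n ≤ 21 := Nat.le_of_dvd (by norm_num) hn
        interval_cases n <;> omega
      exact h2 _ hX21 h7
    have h2 : IsPGroup 3 X := by
      rcases h1 with h1 | h1
      · exact IsPGroup.of_card (n := 0) (by rw [h1, pow_zero])
      · exact IsPGroup.of_card (n := 1) (by rw [h1, pow_one])
    have h3 := h2.card_modEq_card_fixedPoints V
    rw [h8] at h3
    have h4 : 1 < Nat.card (MulAction.fixedPoints X V) := by
      have h5 : 8 % 3 = Nat.card (MulAction.fixedPoints X V) % 3 := h3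
      omega
    have h5 : ∃ v : V, v ≠ 1 ∧ v ∈ MulAction.fixedPoints X V := by
      by_contra hcon
      push Not at hcon
      have h6 : MulAction.fixedPoints X V ⊆ {1} := by
        intro v hv
        by_contra h7
        exact hcon v h7 hv
      have h7 : Nat.card (MulAction.fixedPoints X V) ≤ Nat.card ({1} : Set V) :=
        Nat.card_mono (Set.toFinite _) h6
      have h8 : Nat.card ({1} : Set V) = 1 := Nat.card_unique
      omega
    obtain ⟨v, hv1, hv⟩ := h5
    have h6 : (⟨(v : G), h.VK v.2⟩ : K) = 1 := by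
      refine fixed_eq_one hna S hScomm ?_ ?_ ?_
      · rw [hSV]; exact mem_subgroupOf.2 v.2
      · exact Subtype.ext (h.oct.sq v v.2)
      · intro n hn
        have hnN : (n : G) ∈ N := by
          have h8 : ∀ g : K, g ∈ normalizer ((S : Subgroup K) : Set K) → ∀ x ∈ V, (g : G) * x * (g : G)⁻¹ ∈ V := by
            intro g hg x hx
            have h9 := (mem_normalizer_iff.1 hg ⟨x, h.VK hx⟩).1 (by rw [hSV]; exact mem_subgroupOf.2 hx)
            rw [hSV] at h9
            exact mem_subgroupOf.1 h9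
          show (n : G) ∈ normalizer (V : Set G)
          rw [mem_normalizer_iff]
          intro x
          constructor
          · exact h8 n hn x
          · intro hx
            have h9 := h8 n⁻¹ (inv_mem hn) _ hx
            have h10 : ((n⁻¹ : K) : G) * ((n : G) * x * (n : G)⁻¹) * ((n⁻¹ : K) : G)⁻¹ = x := by
              rw [coe_inv]; group
            rwa [h10] at h9
        have h8 : ρ ⟨n, hnN⟩ ∈ X := ⟨⟨n, hnN⟩, mem_subgroupOf.2 n.2, rfl⟩
        have h9 : (ρ ⟨n, hnN⟩) v = v := hv ⟨_, h8⟩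
        have h10 := hρ ⟨n, hnN⟩ v
        rw [h9] at h10
        exact Subtype.ext h10.symm
    have h7 : (v : G) = 1 := congrArg (Subtype.val : K → G) h6
    exact hv1 (Subtype.ext h7)
  obtain ⟨y, hy7⟩ := exists_prime_orderOf_dvd_card' 7 h7X
  obtain ⟨⟨y, hyX⟩, hy7⟩ : ∃ y : X, orderOf y = 7 := ⟨y, hy7⟩
  rw [Subgroup.orderOf_mk] at hy7
  obtain ⟨d, hdK, hdy⟩ := hyX
  have hdK' : (d : G) ∈ K := mem_subgroupOf.1 hdK
  -- `Z` normalizes `X`
  have hZX : Z ≤ normalizer (X : Set (MulAut V)) := by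
    have h1 : ∀ z ∈ Z, ∀ x ∈ X, z * x * z⁻¹ ∈ X := by
      rintro _ ⟨n, hn, rfl⟩ _ ⟨k, hk, rfl⟩
      refine ⟨n * k * n⁻¹, ?_, by rw [map_mul, map_mul, map_inv]⟩
      have h2 : (n : G) ∈ normalizer (K : Set G) := h.nK _ (mem_centralizer_singleton_iff.1 (mem_subgroupOf.1 hn))
      exact mem_subgroupOf.2 ((mem_normalizer_iff.1 h2 _).1 (mem_subgroupOf.1 hk))
    intro z hz
    rw [mem_normalizer_iff]
    intro x
    constructor
    · exact h1 z hz x
    · intro hx
      have h2 := h1 z⁻¹ (inv_mem hz) _ hx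
      have h3 : z⁻¹ * (z * x * z⁻¹) * z⁻¹⁻¹ = x := by group
      rwa [h3] at h2
  obtain ⟨hZ2, hZy⟩ := odd_of hAs h168 hZX hXodd ⟨d, hdK, hdy⟩ hy7
  -- elements of `C(t)` normalizing `V`
  have hpow : ∀ (n : ℕ) (v : V), (((y ^ n : MulAut V) v : V) : G) = (d : G) ^ n * v * ((d : G) ^ n)⁻¹ := by
    intro n v
    rw [← hdy, ← map_pow, hρ (d ^ n) v]
    rfl
  have hmemN : ∀ n : G, (∀ v ∈ V, n * v * n⁻¹ ∈ V) → n ∈ N := by
    intro n hn
    show n ∈ normalizer (V : Set G)
    have h1 : V.map (MulAut.conj n).toMonoidHom = V := by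
      have hle : V.map (MulAut.conj n).toMonoidHom ≤ V := by
        rintro _ ⟨v, hv, rfl⟩
        exact hn v hv
      apply eq_of_le_of_card_ge hle
      rw [card_map_of_injective (MulAut.conj n).injective]
    rw [mem_normalizer_iff]
    intro x
    constructor
    · exact hn x
    · intro hx
      rw [← h1] at hx
      obtain ⟨v, hv, hvx⟩ := hx
      have h2 : n * v * n⁻¹ = n * x * n⁻¹ := hvx
      have h3 : v = x := by simpa using h2
      rwa [← h3]
  refine ⟨d, hdK', d.2, ?_, ?_⟩
  · refine ⟨h.Kt _ hdK', ?_, ?_, ?_⟩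
    · intro v hv
      exact (mem_normalizer_iff.1 d.2 v).1 hv
    · intro v hv w hw hv1 hw1
      obtain ⟨n, hn⟩ := regular h8 y hy7 (v := ⟨v, hv⟩) (w := ⟨w, hw⟩)
        (fun h1 => hv1 (congrArg Subtype.val h1)) (fun h1 => hw1 (congrArg Subtype.val h1))
      refine ⟨n, ?_⟩
      have h1 := hpow n ⟨v, hv⟩
      rw [hn] at h1
      exact h1.symm
    · intro n hnt hnV
      have hnN := hmemN n hnV
      have hZn : ρ ⟨n, hnN⟩ ∈ Z :=
        ⟨⟨n, hnN⟩, mem_subgroupOf.2 (mem_centralizer_singleton_iff.2 hnt), rfl⟩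
      have h1 := hZy _ hZn
      obtain ⟨m, hm⟩ := (mem_zpowers_iff_mem_range_orderOf.1 h1 |> Finset.mem_image.1)
      refine ⟨m, ?_⟩
      intro v hv
      have h2 := hpow m ⟨v, hv⟩
      rw [hm.2, ← hdy, ← map_inv, ← map_mul, ← map_mul, hρ] at h2
      exact h2
  · intro P hP hPt hPN x hx v hv
    have hxN : x ∈ N := hPN hx
    have h1 : ρ ⟨x, hxN⟩ = 1 := by
      have hxZ : ρ ⟨x, hxN⟩ ∈ Z :=
        ⟨⟨x, hxN⟩, mem_subgroupOf.2 (mem_centralizer_singleton_iff.2 (hPt x hx)), rfl⟩
      obtain ⟨k, hk⟩ := hP ⟨x, hx⟩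
      have hk' : x ^ (2 ^ k) = 1 := congrArg Subtype.val hk
      have h2 : (ρ ⟨x, hxN⟩) ^ (2 ^ k) = 1 := by
        rw [← map_pow]
        have h3 : (⟨x, hxN⟩ : N) ^ (2 ^ k) = 1 := Subtype.ext hk'
        rw [h3, map_one]
      have h3 : orderOf (ρ ⟨x, hxN⟩) ∣ 2 ^ k := orderOf_dvd_of_pow_eq_one h2
      have h4 : orderOf (ρ ⟨x, hxN⟩) ∣ Nat.card Z := by
        rw [← Nat.card_zpowers]
        exact card_dvd_of_le (zpowers_le.2 hxZ)
      have h5 : Nat.Coprime (Nat.card Z) (2 ^ k) :=
        Nat.Coprime.pow_right k ((Nat.prime_two.coprime_iff_not_dvd.2 hZ2).symm)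
      have h6 : orderOf (ρ ⟨x, hxN⟩) ∣ 1 := by
        rw [← h5]
        exact Nat.dvd_gcd h4 h3
      exact orderOf_eq_one_iff.1 (Nat.dvd_one.1 h6)
    have h2 := hρ ⟨x, hxN⟩ ⟨v, hv⟩
    rw [h1] at h2
    have h3 : v = x * v * x⁻¹ := h2
    exact (eq_mul_inv_iff_mul_eq.1 h3).symm

end Loc

end Cfsg.Agent.OddHalf.EightTorus.Auto
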