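import Cfsg.Agent.OddHalf.EightTorus.Auto
import Cfsg.Agent.OddHalf.Front.FE
import Cfsg.Agent.StdL2.TowerLoc
import Cfsg.Agent.StdL2.ExcUpB
import Cfsg.Agent.StdL2.G23Trans
import Cfsg.Agent.Transfer.ThompsonTransfer
import Cfsg.Agent.SmallSimple.SylowMaxInter

/-!
# A simple standard component with elementary abelian Sylow 2-subgroups of order 8

No counterexample `G` to S1765 has a simple standard component `K` with elementary abelian Sylow 2-subgroups of
order 8 such that `C(K)` has cyclic Sylow 2-subgroups (rows `K = J₁` of D8, `K = ²G₂(q)` of D6; also `L₂(8)`).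
-/

set_option autoImplicit false

namespace Cfsg.Agent.OddHalf.EightTorus.Kill

open Subgroup Cfsg Cfsg.Agent.StdL2 Cfsg.Agent.StdL2.G23Aut Cfsg.Agent.OddHalf.Iface
open Cfsg.Agent.OddHalf.Front.FE

universe u

/-- the position -/
structure Pos {G : Type u} [Group G] (K V : Subgroup G) (t q : G) : Prop extends Start K t q where
  VK : V ≤ K
  odd : ¬ 2 ∣ V.relIndex K
  oct : Oct V

namespace Pos

variable {G : Type u} [Group G] [Finite G] {K V : Subgroup G} {t q : G}

omit [Finite G] in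
theorem na (h : Pos K V t q) : ∃ x ∈ K, ∃ y ∈ K, x * y ≠ y * x := by
  by_contra hcon
  push Not at hcon
  have hK : K = ⊥ := by
    rw [eq_bot_iff]
    intro x hx
    exact mem_bot.2 (h.cen x hx fun y hy => hcon y hy x hx)
  have h8 := h.oct.card
  have h1 : V = ⊥ := le_bot_iff.1 (hK ▸ h.VK)
  rw [h1, card_bot] at h8
  omega

omit [Finite G] in
theorem loc (h : Pos K V t q) : Auto.Loc K V t where
  simple := h.simple
  na := h.na
  VK := h.VK
  odd := h.odd
  oct := h.oct
  Kt := h.toStart.toStart0.Kt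
  nK := h.nK

omit [Finite G] in
theorem V2 (h : Pos K V t q) : IsPGroup 2 V := IsPGroup.of_card (n := 3) (by rw [h.oct.card]; norm_num)

/-- `P ∩ K = V` for 2-groups `P` containing `V` -/
theorem inf_eq (h : Pos K V t q) {P : Subgroup G} (hP : IsPGroup 2 P) (hVP : V ≤ P) : P ⊓ K = V := by
  have hp2 : Fact (Nat.Prime 2) := ⟨Nat.prime_two⟩
  apply le_antisymm _ (le_inf hVP h.VK)
  have h1 : IsPGroup 2 (P ⊓ K : Subgroup G) := hP.to_le inf_le_left
  obtain ⟨m, hm⟩ := h1.index (V.subgroupOf (P ⊓ K))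
  have hm' : V.relIndex (P ⊓ K) = 2 ^ m := hm
  have h2 := relIndex_mul_relIndex V (P ⊓ K) K (le_inf hVP h.VK) inf_le_right
  have hm0 : m = 0 := by
    by_contra hne
    apply h.odd
    rw [← h2, hm']
    exact (dvd_pow_self 2 hne).mul_right _
  rw [hm0, pow_zero, relIndex_eq_one] at hm'
  exact hm'

/-- the elements of 2-subgroups of `C(t)` containing `V` -/
theorem mem_of (h : Pos K V t q) {P : Subgroup G} (hP : IsPGroup 2 P) (hPt : ∀ x ∈ P, x * t = t * x)
    (hVP : V ≤ P) {x : G} (hx : x ∈ P) : ∃ v ∈ V, ∃ c ∈ zpowers q, x = v * c := by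
  classical
  have hp2 : Fact (Nat.Prime 2) := ⟨Nat.prime_two⟩
  have hKs := h.simple
  have hcap := h.inf_eq hP hVP
  have hPN : P ≤ normalizer (V : Set G) := by
    intro y hy
    have h1 := h.nK y (hPt y hy)
    rw [mem_normalizer_iff]
    intro z
    have h2 : z ∈ P ↔ y * z * y⁻¹ ∈ P := by
      constructor
      · intro hz; exact mul_mem (mul_mem hy hz) (inv_mem hy)
      · intro hz
        have h3 : z = y⁻¹ * (y * z * y⁻¹) * y := by group
        rw [h3]
        exact mul_mem (mul_mem (inv_mem hy) hz) hy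
    rw [← hcap]
    exact ⟨fun hz => ⟨h2.1 hz.1, (mem_normalizer_iff.1 h1 z).1 hz.2⟩,
      fun hz => ⟨h2.2 hz.1, (mem_normalizer_iff.1 h1 z).2 hz.2⟩⟩
  obtain ⟨d, -, -, -, hd⟩ := h.loc.main
  have hxV := hd P hP hPt hPN x hx
  -- the Sylow subgroup of `K`
  have hV' : IsPGroup 2 (V.subgroupOf K) := h.V2.comap_subtype
  let S : Sylow 2 K := hV'.toSylow h.odd
  have hSV : (S : Subgroup K) = V.subgroupOf K := rfl
  have hScomm : ∀ x ∈ (S : Subgroup K), ∀ y ∈ (S : Subgroup K), x * y = y * x := by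
    intro x hx y hy
    exact Subtype.ext (h.oct.comm (mem_subgroupOf.1 hx) (mem_subgroupOf.1 hy))
  have hna : ∃ a b : K, a * b ≠ b * a := by
    obtain ⟨x, hx, y, hy, hxy⟩ := h.na
    exact ⟨⟨x, hx⟩, ⟨y, hy⟩, fun h1 => hxy (congrArg Subtype.val h1)⟩
  have hS1 : (S : Subgroup K) ≠ ⊥ := by
    intro h1
    have h2 : V = ⊥ := by
      rw [eq_bot_iff]
      intro v hv
      have h3 : (⟨v, h.VK hv⟩ : K) ∈ (S : Subgroup K) := mem_subgroupOf.2 hv
      rw [h1, mem_bot] at h3
      exact mem_bot.2 (congrArg Subtype.val h3)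
    have h8 := h.oct.card
    rw [h2, card_bot] at h8
    omega
  -- the automorphism
  have hxN := h.nK x (hPt x hx)
  let ρ : normalizer (K : Set G) →* MulAut K := K.normalizerMonoidHom
  have hρ : ∀ (n : normalizer (K : Set G)) (y : K), ((ρ n y : K) : G) = n * y * (n : G)⁻¹ := fun _ _ => rfl
  have hα : IsPGroup 2 (zpowers (ρ ⟨x, hxN⟩)) := by
    obtain ⟨k, hk⟩ := hP ⟨x, hx⟩
    have hk' : x ^ (2 ^ k) = 1 := congrArg Subtype.val hk
    have h2 : (ρ ⟨x, hxN⟩) ^ (2 ^ k) = 1 := by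
      rw [← map_pow]
      have h3 : (⟨x, hxN⟩ : normalizer (K : Set G)) ^ (2 ^ k) = 1 := Subtype.ext hk'
      rw [h3, map_one]
    rintro ⟨_, m, rfl⟩
    refine ⟨k, Subtype.ext ?_⟩
    show ((ρ ⟨x, hxN⟩) ^ m) ^ (2 ^ k) = 1
    rw [← zpow_natCast, ← zpow_mul, mul_comm, zpow_mul, zpow_natCast, h2, one_zpow]
  obtain ⟨v, hvS, hv⟩ := AbelAut.eq_conj hna S hScomm hS1 (ρ ⟨x, hxN⟩) hα (by
    intro s hs
    apply Subtype.ext
    rw [hρ]
    show x * (s : G) * x⁻¹ = s
    rw [hxV s (mem_subgroupOf.1 hs), mul_inv_cancel_right])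
  have hvV : (v : G) ∈ V := mem_subgroupOf.1 hvS
  have hvt := h.toStart.toStart0.Kt v v.2
  refine ⟨v, hvV, (v : G)⁻¹ * x, ?_, by group⟩
  apply h.cK
  · have h1 : (v : G)⁻¹ * t = t * (v : G)⁻¹ := ((show Commute (v : G) t from hvt).inv_left)
    rw [mul_assoc, hPt x hx, ← mul_assoc, h1, mul_assoc]
  · intro y hy
    have h1 := hv ⟨y, hy⟩
    have h2 : x * y * x⁻¹ = (v : G) * y * (v : G)⁻¹ := by
      have h3 := congrArg Subtype.val h1
      rwa [hρ] at h3
    have h3 : x * y = (v : G) * y * (v : G)⁻¹ * x := by rw [← h2]; group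
    have h4 : (v : G)⁻¹ * x * y = y * ((v : G)⁻¹ * x) := by
      rw [mul_assoc, h3]; group
    exact h4.symm

omit [Finite G] in
theorem t_not_mem (h : Pos K V t q) : t ∉ V := by
  intro h1
  exact h.t1 (h.cen t (h.VK h1) fun y hy => h.toStart.toStart0.Kt y hy)

/-- `|Q| = 2` -/
theorem tcen (h : Pos K V t q) (hq : q * q = 1) : TCen t V where
  t2 := h.tt
  tV := h.t_not_mem
  vsq := h.oct.sq
  vt := fun v hv => (h.toStart.toStart0.Kt v (h.VK hv)).symm
  syl := by
    intro P hP hPt hVP _ x hx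
    obtain ⟨v, hv, c, hc, rfl⟩ := h.mem_of hP (fun y hy => (hPt y hy).symm) hVP hx
    have hq2 : ∀ k : ℤ, q ^ k * q ^ k = 1 := by
      intro k
      rw [← (Commute.refl q).mul_zpow, hq, one_zpow]
    have h1 : c = 1 ∨ c = t := by
      by_cases hc1 : c = 1
      · exact Or.inl hc1
      · refine Or.inr (h.toStart.toStart0.uniq hc ?_ hc1)
        obtain ⟨k, rfl⟩ := mem_zpowers_iff.1 hc
        exact hq2 k
    rcases h1 with rfl | rfl
    · left; rwa [mul_one]
    · right
      have h2 : c * (v * c) = v := by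
        rw [← mul_assoc, ← h.toStart.toStart0.Kt v (h.VK hv), mul_assoc, h.tt, mul_one]
      rwa [h2]

/-- `t` is a square in `Q` if `|Q| > 2` -/
theorem exists_sq (h : Pos K V t q) (hq : q * q ≠ 1) : ∃ c ∈ zpowers q, c * c = t := by
  classical
  obtain ⟨k, hk, hkt⟩ := (mem_zpowers_iff_mem_range_orderOf.1 h.tQ |> Finset.mem_image.1)
  have hkt' : q ^ k = t := hkt
  rcases Nat.even_or_odd k with ⟨m, hm⟩ | ho
  · refine ⟨q ^ m, pow_mem (mem_zpowers q) m, ?_⟩
    rw [← pow_add, ← hm, hkt']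
  · exfalso
    apply hq
    obtain ⟨n, hn⟩ := IsPGroup.iff_card.1 h.pQ
    rw [Nat.card_zpowers] at hn
    have hcop : Nat.Coprime (orderOf q) k := by
      rw [hn]
      exact Nat.Coprime.pow_left n (Nat.coprime_two_left.2 ho)
    have h1 : orderOf (q ^ k) = orderOf q := hcop.orderOf_pow
    have h2 : orderOf t = 2 := orderOf_eq_prime (by rw [pow_two]; exact h.tt) h.t1
    rw [hkt', h2] at h1
    rw [← pow_two, h1, pow_orderOf_eq_one]

omit [Finite G] in
/-- the abelian 2-group `VQ` -/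
theorem exists_T (h : Pos K V t q) : ∃ T : Subgroup G, (∀ x, x ∈ T ↔ ∃ v ∈ V, ∃ c ∈ zpowers q, x = v * c) ∧
    IsPGroup 2 T := by
  have hcomm : ∀ v ∈ V, ∀ c ∈ zpowers q, v * c = c * v := fun v hv c hc =>
    h.toStart.toStart0.QK c hc v (h.VK hv)
  let T : Subgroup G :=
    { carrier := {x | ∃ v ∈ V, ∃ c ∈ zpowers q, x = v * c}
      one_mem' := ⟨1, one_mem _, 1, one_mem _, (mul_one _).symm⟩
      mul_mem' := by
        rintro _ _ ⟨v, hv, c, hc, rfl⟩ ⟨w, hw, e, he, rfl⟩
        refine ⟨v * w, mul_mem hv hw, c * e, mul_mem hc he, ?_⟩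
        calc v * c * (w * e) = v * (c * w) * e := by group
          _ = v * (w * c) * e := by rw [hcomm w hw c hc]
          _ = v * w * (c * e) := by group
      inv_mem' := by
        rintro _ ⟨v, hv, c, hc, rfl⟩
        refine ⟨v⁻¹, inv_mem hv, c⁻¹, inv_mem hc, ?_⟩
        rw [mul_inv_rev, hcomm _ (inv_mem hv) _ (inv_mem hc)] }
  refine ⟨T, fun x => Iff.rfl, ?_⟩
  rintro ⟨x, v, hv, c, hc, rfl⟩
  obtain ⟨k, hk⟩ := h.pQ ⟨c, hc⟩
  have hk' : c ^ (2 ^ k) = 1 := congrArg Subtype.val hk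
  refine ⟨k + 1, Subtype.ext ?_⟩
  show (v * c) ^ (2 ^ (k + 1)) = 1
  have h1 : Commute v c := hcomm v hv c hc
  rw [h1.mul_pow, pow_succ 2 k, pow_mul c, hk', one_pow, mul_one, mul_comm, pow_mul, pow_two, h.oct.sq v hv,
    one_pow]

/-- `|Q| > 2` is impossible -/
theorem sq_eq_one (h : Pos K V t q) (C : Ctx G) : q * q = 1 := by
  classical
  have hp2 : Fact (Nat.Prime 2) := ⟨Nat.prime_two⟩
  by_contra hq
  obtain ⟨c0, hc0, hc0t⟩ := h.exists_sq hq
  obtain ⟨T, hT, hTp⟩ := h.exists_T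
  have hcomm : ∀ v ∈ V, ∀ c ∈ zpowers q, v * c = c * v := fun v hv c hc =>
    h.toStart.toStart0.QK c hc v (h.VK hv)
  have hVT : V ≤ T := fun v hv => (hT v).2 ⟨v, hv, 1, one_mem _, (mul_one v).symm⟩
  have hQT : zpowers q ≤ T := fun c hc => (hT c).2 ⟨1, one_mem _, c, hc, (one_mul c).symm⟩
  have hTt : ∀ x ∈ T, x * t = t * x := by
    intro x hx
    obtain ⟨v, hv, c, hc, rfl⟩ := (hT x).1 hx
    have h1 : Commute v t := h.toStart.toStart0.Kt v (h.VK hv)
    have h2 : Commute c t := h.toStart.toStart0.Qt c hc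
    exact h1.mul_left h2
  have hTsq : ∀ x ∈ T, x * x ∈ zpowers q := by
    intro x hx
    obtain ⟨v, hv, c, hc, rfl⟩ := (hT x).1 hx
    have h1 : v * c * (v * c) = v * v * (c * c) := by
      calc v * c * (v * c) = v * (c * v) * c := by group
        _ = v * (v * c) * c := by rw [hcomm v hv c hc]
        _ = v * v * (c * c) := by group
    rw [h1, h.oct.sq v hv, one_mul]
    exact mul_mem hc hc
  have hTab : ∀ x ∈ T, ∀ y ∈ T, x * y = y * x := by
    intro x hx y hy
    obtain ⟨v, hv, c, hc, rfl⟩ := (hT x).1 hx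
    obtain ⟨w, hw, e, he, rfl⟩ := (hT y).1 hy
    have h1 : Commute v w := h.oct.comm hv hw
    have h2 : Commute v e := hcomm v hv e he
    have h3 : Commute c w := (hcomm w hw c hc).symm
    have h4 : Commute c e := by
      obtain ⟨a, rfl⟩ := mem_zpowers_iff.1 hc
      obtain ⟨b, rfl⟩ := mem_zpowers_iff.1 he
      exact (Commute.refl q).zpow_zpow a b
    exact (h1.mul_right h2).mul_left (h3.mul_right h4)
  -- `N(T) ≤ C(t)`
  have hN : ∀ n ∈ normalizer (T : Set G), n * t * n⁻¹ = t := by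
    intro n hn
    apply h.toStart.toStart0.uniq
    · have h1 : n * c0 * n⁻¹ ∈ T := (mem_normalizer_iff.1 hn c0).1 (hQT hc0)
      have h2 : n * t * n⁻¹ = n * c0 * n⁻¹ * (n * c0 * n⁻¹) := by rw [← hc0t]; group
      rw [h2]
      exact hTsq _ h1
    · have h2 : n * t * n⁻¹ * (n * t * n⁻¹) = n * (t * t) * n⁻¹ := by group
      rw [h2, h.tt, mul_one, mul_inv_cancel]
    · intro h2
      apply h.t1
      have h3 : t = n⁻¹ * (n * t * n⁻¹) * n := by group
      rw [h3, h2]; group
  -- `T` is a Sylow subgroup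
  obtain ⟨R, hR⟩ := hTp.exists_le_sylow
  have hRT : (R : Subgroup G) = T := by
    by_contra hne
    have hlt : T < (R : Subgroup G) := lt_of_le_of_ne hR (Ne.symm hne)
    have h1 := Cfsg.Agent.SmallSimple.SylowMaxInter.lt_inf_normalizer R.isPGroup' hlt
    obtain ⟨x, hx, hxT⟩ := SetLike.exists_of_lt h1
    apply hxT
    rw [hT]
    refine h.mem_of (P := (R : Subgroup G) ⊓ normalizer (T : Set G)) (R.isPGroup'.to_le inf_le_left) ?_ ?_ hx
    · intro y hy
      have h2 := hN y hy.2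
      rwa [mul_inv_eq_iff_eq_mul] at h2
    · exact le_inf (hVT.trans hR) (hVT.trans le_normalizer)
  have htR : t ∈ (R : Subgroup G) := by rw [hRT]; exact hQT h.tQ
  have hRc : IsMulCommutative (R : Subgroup G) := ⟨⟨fun x y => Subtype.ext
    (hTab x (hRT ▸ x.2) y (hRT ▸ y.2))⟩⟩
  have hot : orderOf t = 2 := orderOf_eq_prime (by rw [pow_two]; exact h.tt) h.t1
  obtain ⟨O, hO, hOodd, hOc⟩ := Cfsg.Agent.S0215.result R t hot htR (by
    intro g hg
    obtain ⟨n, hn, h3⟩ := Sylow.conj_eq_normalizer_conj_of_mem R t g⁻¹ htR (by rwa [inv_inv])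
    rw [inv_inv] at h3
    rw [h3]
    have hn' : n ∈ normalizer (T : Set G) := by rw [← hRT]; exact hn
    have h4 := hN n⁻¹ (inv_mem hn')
    rwa [inv_inv] at h4)
  have hs := C.simple
  have hO1 : O = ⊥ := by
    rcases hO.eq_bot_or_eq_top with h1 | h1
    · exact h1
    · exfalso
      rw [h1, card_top] at hOodd
      have h3 : 2 ∣ Nat.card G := by rw [← hot]; exact orderOf_dvd_natCard t
      exact (Nat.not_even_iff_odd.2 hOodd) (even_iff_two_dvd.2 h3)
  have hcen : t ∈ center G := by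
    rw [mem_center_iff]
    intro g
    have h3 := hOc g
    rw [hO1, mem_bot, mul_inv_eq_one, mul_inv_eq_iff_eq_mul] at h3
    exact h3.symm
  rcases (inferInstance : (center G).Normal).eq_bot_or_eq_top with h1 | h1
  · rw [h1, mem_bot] at hcen
    exact h.t1 hcen
  · apply C.na
    exact ⟨⟨fun a b => mem_center_iff.1 (by rw [h1]; trivial : b ∈ center G) a⟩⟩

omit [Finite G] in
/-- Thompson transfer -/
theorem transfer (C : Ctx G) (S : Sylow 2 G) {U : Subgroup G} (hU : U ≤ (S : Subgroup G))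
    (hidx : U.relIndex (S : Subgroup G) = 2) {t : G} (htt : t * t = 1) (hno : ∀ g : G, g * t * g⁻¹ ∉ U) : False := by
  have := C.fin
  rcases Cfsg.Agent.Transfer.ThompsonTransfer.thompson_transfer S U hU hidx t (by rw [pow_two]; exact htt) with
    ⟨M, -, hM, -⟩ | ⟨g, hg⟩
  · exact index_ne_two C M hM
  · exact hno g hg

/-- **The kill.** -/
theorem false (h : Pos K V t q) (C : Ctx G) : False := by
  classical
  have hp2 : Fact (Nat.Prime 2) := ⟨Nat.prime_two⟩
  have H := h.tcen (h.sq_eq_one C)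
  obtain ⟨d, -, -, hd, -⟩ := h.loc.main
  rcases tower H (by rw [h.oct.card]; norm_num) hd with ⟨S, hS⟩ | ⟨U, hU⟩ | ⟨k, W, d', X⟩
  · -- `|S| = 16`
    have hc : Nat.card (S : Subgroup G) ≤ 16 := by
      have h1 : ((S : Subgroup G) : Set G) = (V : Set G) ∪ ((fun x => t * x) '' (V : Set G)) := by
        ext x
        constructor
        · intro hx
          rcases (hS x).1 hx with h | h'
          · exact Or.inl h
          · refine Or.inr ⟨t * x, h', ?_⟩
            show t * (t * x) = x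
            rw [← mul_assoc, h.tt, one_mul]
        · rintro (hx | ⟨y, hy, rfl⟩)
          · exact (hS x).2 (Or.inl hx)
          · refine (hS _).2 (Or.inr ?_)
            show t * (t * y) ∈ V
            rw [← mul_assoc, h.tt, one_mul]
            exact hy
      have h2 : Nat.card (S : Subgroup G) = Set.ncard ((S : Subgroup G) : Set G) := rfl
      rw [h2, h1]
      refine (Set.ncard_union_le _ _).trans ?_
      have h3 : Set.ncard ((fun x => t * x) '' (V : Set G)) ≤ Set.ncard (V : Set G) :=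
        Set.ncard_image_le (Set.toFinite _)
      have h4 : Set.ncard (V : Set G) = 8 := h.oct.card
      omega
    apply C.sect5
    intro A N hN B hB hBel
    have hBp : IsPGroup 2 B := by
      intro b
      refine ⟨1, Subtype.ext ?_⟩
      show (b : A ⧸ N) ^ (2 ^ 1) = 1
      rw [pow_one]
      exact hBel b b.2
    obtain ⟨m, hm⟩ := IsPGroup.iff_card.1 hBp
    have h1 : Nat.card B ∣ Nat.card G := by
      refine (card_subgroup_dvd_card B).trans (Dvd.dvd.trans ?_ (card_subgroup_dvd_card A))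
      exact card_quotient_dvd_card N
    rw [hm] at h1
    have h2 : 2 ^ m ∣ Nat.card (S : Subgroup G) := by
      rw [S.card_eq_multiplicity]
      exact (Nat.Prime.pow_dvd_iff_dvd_ordProj Nat.prime_two (Nat.card_pos.ne')).1 h1
    rw [hm]
    have h3 := Nat.le_of_dvd Nat.card_pos h2
    omega
  · -- `Stop`
    obtain ⟨S, hS⟩ := hU.syl
    refine transfer C S (U := U) (fun x hx => (hS x).2 (Or.inl hx)) ?_ h.tt hU.noconj
    have htS : t ∈ (S : Subgroup G) := (hS t).2 (Or.inr (by rw [h.tt]; exact one_mem _))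
    rw [relIndex, index_eq_two_iff_exists_notMem_and]
    refine ⟨⟨t, htS⟩, fun h1 => hU.tU (mem_subgroupOf.1 h1), ?_⟩
    rintro ⟨x, hx⟩
    rcases (hS x).1 hx with h1 | h1
    · exact Or.inr (mem_subgroupOf.2 h1)
    · left
      refine mem_subgroupOf.2 ?_
      show x * t ∈ U
      have h2 := hU.norm _ h1
      have h3 : t * (t * x) * t⁻¹ = x * t := by
        rw [← mul_assoc, h.tt, one_mul, inv_eq_of_mul_eq_one_right h.tt]
      rwa [h3] at h2
  · rcases Nat.eq_zero_or_pos k with rfl | hk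
    · have hs := C.simple
      have e : (⊤ : Subgroup G) ≃* G := topEquiv
      have h1 : IsSimpleGroup (⊤ : Subgroup G) := e.isSimpleGroup
      refine (Exc.loc H X).t_not_mem ⊤ h1 ?_ (mem_top t)
      intro h2
      apply C.na
      exact ⟨⟨fun a b => congrArg Subtype.val (h2.is_comm.comm ⟨a, mem_top a⟩ ⟨b, mem_top b⟩)⟩⟩
    · obtain ⟨S0, hS0⟩ := X.exists_ES H
      obtain ⟨U, hU, hWU, htU, hidx⟩ := hS0.exists_U0 H
      obtain ⟨R, hR⟩ := hS0.sylow H hk
      refine transfer C R (U := U) (by rw [hR]; exact hU) (by rw [hR]; exact hidx) h.tt ?_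
      exact hS0.noconj H hk hU hWU htU

end Pos

end Cfsg.Agent.OddHalf.EightTorus.Kill
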